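import Groth.Agent.H70.LocCrit.Gen
import Mathlib.RingTheory.IsTensorProduct
import Mathlib.RingTheory.Flat.Tensor

/-!
# Tensoring a base change (helper70)

For `j : M → P` a base change along `R → R'` and an `R'`-module `Q`,
`theta : P ⊗[R'] Q ≃ Q ⊗[R] M`, natural in `Q`.
-/

set_option autoImplicit false
universe u
open scoped TensorProduct
open Function (Injective Surjective Exact)

namespace Groth.Agent.H70.LocCrit

section Theta

variable {R R' : Type u} [CommRing R] [CommRing R'] [Algebra R R'] {M P : Type u}
  [AddCommGroup M] [Module R M] [AddCommGroup P] [Module R' P] [Module R P] [IsScalarTower R R' P]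
  {j : M →ₗ[R] P} (hj : IsBaseChange R' j)
  (Q : Type u) [AddCommGroup Q] [Module R' Q] [Module R Q] [IsScalarTower R R' Q]

/-- `P ⊗[R'] Q ≃ Q ⊗[R] M` when `P` is the base change of `M`. -/
noncomputable def theta : P ⊗[R'] Q ≃ₗ[R'] Q ⊗[R] M :=
  TensorProduct.comm R' P Q ≪≫ₗ hj.tensorEquiv Q

lemma theta_tmul (m : M) (q : Q) : theta hj Q (j m ⊗ₜ q) = q ⊗ₜ m := by
  simp [theta, IsBaseChange.tensorEquiv, hj.equiv_symm_apply]

lemma theta_symm_tmul (m : M) (q : Q) : (theta hj Q).symm (q ⊗ₜ m) = j m ⊗ₜ q := by
  rw [LinearEquiv.symm_apply_eq, theta_tmul]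

variable {Q}
variable {Q₂ : Type u} [AddCommGroup Q₂] [Module R' Q₂] [Module R Q₂] [IsScalarTower R R' Q₂]

lemma theta_natural (u : Q →ₗ[R'] Q₂) (z : P ⊗[R'] Q) :
    theta hj Q₂ (u.lTensor P z) = (u.restrictScalars R).rTensor M (theta hj Q z) := by
  obtain ⟨x, rfl⟩ := (theta hj Q).symm.surjective z
  induction x using TensorProduct.induction_on with
  | zero => simp
  | tmul q m =>
    rw [theta_symm_tmul, LinearMap.lTensor_tmul, theta_tmul, theta_tmul, LinearMap.rTensor_tmul]
    rfl
  | add a b ha hb => simp only [map_add, ha, hb]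

include hj in
lemma lTensor_injective_of_rTensor_injective (u : Q →ₗ[R'] Q₂)
    (h : Injective ((u.restrictScalars R).rTensor M)) : Injective (u.lTensor P) := by
  intro a b hab
  apply (theta hj Q).injective
  apply h
  rw [← theta_natural, ← theta_natural, hab]

/-- Kernel control for `P ⊗ I' → P ⊗ R'` from `gen`. -/
theorem ker_lTensor_of_gen (I : Ideal R) [Module.Flat (R ⧸ I) ((R ⧸ I) ⊗[R] M)]
    (X : Type u) [AddCommGroup X] [Module R' X]
    (ψ : P ⊗[R'] (I.map (algebraMap R R')) →ₗ[R'] X)
    (hψ : ∀ k : I ⊗[R] M, I.subtype.rTensor M k = 0 →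
      ψ ((theta hj (I.map (algebraMap R R'))).symm ((Algebra.idealMap R' I).rTensor M k)) = 0)
    (z : P ⊗[R'] (I.map (algebraMap R R')))
    (hz : (I.map (algebraMap R R')).subtype.lTensor P z = 0) : ψ z = 0 := by
  have h1 := gen R R' I M X (ψ ∘ₗ (theta hj (I.map (algebraMap R R'))).symm.toLinearMap)
    (fun k hk => hψ k hk) (theta hj _ z) (by
      have := theta_natural hj ((I.map (algebraMap R R')).subtype) z
      rw [hz, map_zero] at this
      exact this.symm)
  simpa using h1

end Theta

section FlatOfInj

variable {R M : Type u} [CommRing R] [AddCommGroup M] [Module R M]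

/-- Converse of `rTensor_injective_of_algebra_flat`: ideal-wise injectivity gives flatness of the
base change. -/
theorem flat_of_rTensor_injective (A : Type u) [CommRing A] [Algebra R A]
    (h : ∀ J : Ideal A, Injective ((J.subtype.restrictScalars R).rTensor M)) :
    Module.Flat A (A ⊗[R] M) := by
  rw [Module.Flat.iff_rTensor_injective']
  intro J
  let e' := TensorProduct.AlgebraTensorModule.cancelBaseChange R A A J M
  let e := TensorProduct.AlgebraTensorModule.cancelBaseChange R A A A M
  have hcomm : ∀ x, (J.subtype.restrictScalars R).rTensor M (e' x) =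
      e (J.subtype.rTensor (A ⊗[R] M) x) := by
    intro x
    induction x using TensorProduct.induction_on with
    | zero => simp
    | tmul n y =>
      induction y using TensorProduct.induction_on with
      | zero => simp
      | tmul a k => simp [e, e']
      | add y z hy hz => simp only [TensorProduct.tmul_add, map_add, hy, hz]
    | add x y hx hy => simp only [map_add, hx, hy]
  intro x y hxy
  apply e'.injective
  apply h J
  rw [hcomm, hcomm, hxy]

end FlatOfInj

end Groth.Agent.H70.LocCrit
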