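import Mathlib.RingTheory.Flat.Equalizer
import Mathlib.RingTheory.Flat.Stability
import Mathlib.LinearAlgebra.TensorProduct.Tower
import Mathlib.LinearAlgebra.TensorProduct.RightExactness
import Mathlib.RingTheory.TensorProduct.Basic
import Mathlib.RingTheory.Ideal.Over

/-!
# Generation of `Tor_1` under base change (helper70)

If `M/IM` is flat over `R/I` and `R → R' ` is a ring map with `I' = IR'`, the kernel of
`I' ⊗_R M → R' ⊗_R M` is generated over `R'` by the image of `ker (I ⊗_R M → M)`
(`gen`, stated with a test map).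
-/

set_option autoImplicit false
universe u
open scoped TensorProduct
open Function (Injective Surjective Exact)

namespace Groth.Agent.H70.LocCrit

section kerRange

variable {A : Type u} [CommRing A] {E₁ E₂ E₃ : Type u} [AddCommGroup E₁] [Module A E₁]
  [AddCommGroup E₂] [Module A E₂] [AddCommGroup E₃] [Module A E₃]

/-- If `E₁ → E₂ → E₃ → 0` is exact with `E₃` flat, then `ker (Y ⊗ a)` is the image of
`Y ⊗ ker a`. -/
theorem ker_lTensor_le_range (a : E₁ →ₗ[A] E₂) (b : E₂ →ₗ[A] E₃) (hab : Exact a b)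
    (hb : Surjective b) [Module.Flat A E₃] (Y : Type u) [AddCommGroup Y] [Module A Y]
    (w : Y ⊗[A] E₁) (hw : a.lTensor Y w = 0) :
    ∃ v : Y ⊗[A] (LinearMap.ker a), (LinearMap.ker a).subtype.lTensor Y v = w := by
  let Zb : Submodule A E₂ := LinearMap.ker b
  let a' : E₁ →ₗ[A] Zb := a.codRestrict Zb (fun x => hab.apply_apply_eq_zero x)
  have ha' : Surjective a' := by
    rintro ⟨z, hz⟩
    obtain ⟨y, hy⟩ := (hab z).mp hz
    exact ⟨y, Subtype.ext hy⟩
  have hfac : Zb.subtype ∘ₗ a' = a := LinearMap.subtype_comp_codRestrict _ _ _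
  have hker : LinearMap.ker a' = LinearMap.ker a := by
    ext x
    simp only [LinearMap.mem_ker]
    constructor
    · intro h
      rw [← hfac, LinearMap.comp_apply, h, map_zero]
    · intro h
      apply Subtype.ext
      change a x = 0
      exact h
  have hinj : Injective (Zb.subtype.lTensor Y) :=
    LinearMap.lTensor_injective_of_exact_of_flat b hb Zb.subtype (Submodule.injective_subtype _)
      (LinearMap.exact_subtype_ker_map b) Y
  have h2 : a'.lTensor Y w = 0 := by
    apply hinj
    rw [map_zero, ← LinearMap.comp_apply, ← LinearMap.lTensor_comp, hfac]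
    exact hw
  have hex2 : Exact ((LinearMap.ker a').subtype.lTensor Y) (a'.lTensor Y) :=
    lTensor_exact Y (LinearMap.exact_subtype_ker_map a') ha'
  obtain ⟨v, hv⟩ := (hex2 w).mp h2
  let e : LinearMap.ker a' ≃ₗ[A] LinearMap.ker a := LinearEquiv.ofEq _ _ hker
  refine ⟨e.toLinearMap.lTensor Y v, ?_⟩
  rw [← hv, ← LinearMap.comp_apply, ← LinearMap.lTensor_comp]
  rfl

end kerRange

section keyC

variable {R : Type u} [CommRing R] (I : Ideal R) {L F M : Type u} [AddCommGroup L] [Module R L]
  [AddCommGroup F] [Module R F] [AddCommGroup M] [Module R M]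
  (i : L →ₗ[R] F) (p : F →ₗ[R] M)

/-- the set of "good" pure tensors -/
def goodSet (Y : Type u) [AddCommGroup Y] [Module R Y] : Set (Y ⊗[R] L) :=
  {t | ∃ (y : Y) (ℓ : L), (∃ ζ : I ⊗[R] F, I.subtype.rTensor F ζ = (1 : R) ⊗ₜ[R] i ℓ) ∧
    t = y ⊗ₜ[R] ℓ}

variable {i p}

theorem keyC (hip : Exact i p) (hp : Surjective p)
    [Module.Flat (R ⧸ I) ((R ⧸ I) ⊗[R] M)]
    (Y : Type u) [AddCommGroup Y] [Module R Y] [Module (R ⧸ I) Y] [IsScalarTower R (R ⧸ I) Y]
    (w : Y ⊗[R] L) (hw : i.lTensor Y w = 0) :
    w ∈ Submodule.span R (goodSet I i Y) := by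
  let iA := i.baseChange (R ⧸ I)
  let pA := p.baseChange (R ⧸ I)
  have hpA : Surjective pA := by
    change Surjective (p.baseChange (R ⧸ I))
    rw [LinearMap.baseChange_eq_ltensor]
    exact LinearMap.lTensor_surjective _ hp
  have hex : Exact iA pA := by
    have := lTensor_exact (R ⧸ I) hip hp
    intro x
    change p.baseChange (R ⧸ I) x = 0 ↔ x ∈ Set.range (i.baseChange (R ⧸ I))
    rw [LinearMap.baseChange_eq_ltensor, this x]
    simp [LinearMap.baseChange_eq_ltensor]
  let cL := TensorProduct.AlgebraTensorModule.cancelBaseChange R (R ⧸ I) (R ⧸ I) Y L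
  let cF := TensorProduct.AlgebraTensorModule.cancelBaseChange R (R ⧸ I) (R ⧸ I) Y F
  have hcomm : ∀ x, i.lTensor Y (cL x) = cF (iA.lTensor Y x) := by
    intro x
    induction x using TensorProduct.induction_on with
    | zero => simp
    | tmul n y =>
      induction y using TensorProduct.induction_on with
      | zero => simp
      | tmul a k => simp [cL, cF, iA]
      | add y z hy hz => simp only [TensorProduct.tmul_add, map_add, hy, hz]
    | add x y hx hy => simp only [map_add, hx, hy]
  have hv : ∀ v : Y ⊗[R ⧸ I] (LinearMap.ker iA),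
      cL ((LinearMap.ker iA).subtype.lTensor Y v) ∈ Submodule.span R (goodSet I i Y) := by
    intro v
    induction v using TensorProduct.induction_on with
    | zero => simp
    | add a b ha hb =>
      rw [map_add, map_add]
      exact Submodule.add_mem _ ha hb
    | tmul y k =>
      obtain ⟨k, hk⟩ := k
      obtain ⟨ℓ, rfl⟩ := TensorProduct.mk_surjective R L (R ⧸ I) Ideal.Quotient.mk_surjective k
      apply Submodule.subset_span
      refine ⟨y, ℓ, ?_, ?_⟩
      · have hk' : (1 : R ⧸ I) ⊗ₜ[R] i ℓ = 0 := by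
          have := LinearMap.mem_ker.mp hk
          simpa [iA] using this
        have hexI := rTensor_exact F (LinearMap.exact_subtype_mkQ I) (Submodule.mkQ_surjective I)
        have h0 : (Submodule.mkQ I).rTensor F ((1 : R) ⊗ₜ[R] i ℓ) = 0 := by
          rw [LinearMap.rTensor_tmul]
          exact hk'
        exact (hexI _).mp h0
      · simp [cL]
  obtain ⟨w', rfl⟩ := cL.surjective w
  have h1 : iA.lTensor Y w' = 0 := by
    apply cF.injective
    rw [← hcomm, hw, map_zero]
  obtain ⟨v, rfl⟩ := ker_lTensor_le_range iA pA hex hpA Y w' h1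
  exact hv v

end keyC

section gen

variable (R R' : Type u) [CommRing R] [CommRing R'] [Algebra R R'] (I : Ideal R)
  (M : Type u) [AddCommGroup M] [Module R M] [Module.Flat (R ⧸ I) ((R ⧸ I) ⊗[R] M)]

theorem gen_aux {L F : Type u} [AddCommGroup L] [Module R L] [AddCommGroup F] [Module R F]
    [Module.Flat R F] (i : L →ₗ[R] F) (p : F →ₗ[R] M) (hip : Exact i p) (hp : Surjective p)
    (X : Type u) [AddCommGroup X] [Module R' X]
    (φ : (I.map (algebraMap R R')) ⊗[R] M →ₗ[R'] X)
    (hφ : ∀ k : I ⊗[R] M, I.subtype.rTensor M k = 0 →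
      φ ((Algebra.idealMap R' I).rTensor M k) = 0)
    (x : (I.map (algebraMap R R')) ⊗[R] M)
    (hx : ((I.map (algebraMap R R')).subtype.restrictScalars R).rTensor M x = 0) : φ x = 0 := by
  let I' := I.map (algebraMap R R')
  let incl : I' →ₗ[R] R' := I'.subtype.restrictScalars R
  have hincl : Injective incl := Submodule.injective_subtype I'
  let ι : I →ₗ[R] I' := Algebra.idealMap R' I
  let π' : R' →ₗ[R] (R' ⧸ I') := (Submodule.mkQ I').restrictScalars R
  have hπ' : Surjective π' := Submodule.mkQ_surjective I'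
  have hexI' : Exact incl π' := LinearMap.exact_subtype_mkQ I'
  have hφR : ∀ (r : R) z, φ z = 0 → φ (r • z) = 0 := by
    intro r z hz
    rw [← algebraMap_smul R' r z, map_smul, hz, smul_zero]
  -- step 1
  obtain ⟨ξ, rfl⟩ := LinearMap.lTensor_surjective I' hp x
  have h1 : p.lTensor R' (incl.rTensor F ξ) = 0 := by
    rw [← LinearMap.comp_apply, LinearMap.lTensor_comp_rTensor, ← LinearMap.rTensor_comp_lTensor,
      LinearMap.comp_apply]
    exact hx
  obtain ⟨lam, hlam⟩ := (lTensor_exact R' hip hp _).mp h1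
  have h3 : i.lTensor (R' ⧸ I') (π'.rTensor L lam) = 0 := by
    rw [← LinearMap.comp_apply, LinearMap.lTensor_comp_rTensor, ← LinearMap.rTensor_comp_lTensor,
      LinearMap.comp_apply, hlam, ← LinearMap.comp_apply, ← LinearMap.rTensor_comp,
      hexI'.linearMap_comp_eq_zero, LinearMap.rTensor_zero, LinearMap.zero_apply]
  have h4 := keyC I hip hp (R' ⧸ I') _ h3
  -- the predicate
  let Pr : R' ⊗[R] L → Prop := fun μ =>
    ∃ ξ' : I' ⊗[R] F, incl.rTensor F ξ' = i.lTensor R' μ ∧ φ (p.lTensor I' ξ') = 0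
  have hPadd : ∀ a b, Pr a → Pr b → Pr (a + b) := by
    rintro a b ⟨ξa, ha1, ha2⟩ ⟨ξb, hb1, hb2⟩
    exact ⟨ξa + ξb, by rw [map_add, map_add, ha1, hb1], by rw [map_add, map_add, ha2, hb2, add_zero]⟩
  have hPzero : Pr 0 := ⟨0, by simp, by simp⟩
  have hPsmul : ∀ (r : R) a, Pr a → Pr (r • a) := by
    rintro r a ⟨ξa, ha1, ha2⟩
    exact ⟨r • ξa, by rw [map_smul, map_smul, ha1], by rw [map_smul]; exact hφR r _ ha2⟩
  have hsmulL : ∀ (y : R') (z : I' ⊗[R] F), p.lTensor I' (y • z) = y • p.lTensor I' z := by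
    intro y z
    induction z using TensorProduct.induction_on with
    | zero => simp
    | tmul a f => simp [TensorProduct.smul_tmul']
    | add a b ha hb => simp only [smul_add, map_add, ha, hb]
  have hΛ : ∀ (y : R') (ζ : I ⊗[R] F), incl.rTensor F (y • ι.rTensor F ζ) =
      (LinearMap.toSpanSingleton R R' y).rTensor F (I.subtype.rTensor F ζ) := by
    intro y ζ
    induction ζ using TensorProduct.induction_on with
    | zero => simp
    | tmul a f =>
      simp only [LinearMap.rTensor_tmul, TensorProduct.smul_tmul', LinearMap.toSpanSingleton_apply]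
      congr 1
      change y * algebraMap R R' a = (a : R) • y
      rw [Algebra.smul_def, mul_comm]
    | add a b ha hb => simp only [smul_add, map_add, ha, hb]
  have hgood : ∀ t ∈ goodSet I i R', Pr t := by
    rintro t ⟨y, ℓ, ⟨ζ, hζ⟩, rfl⟩
    refine ⟨y • ι.rTensor F ζ, ?_, ?_⟩
    · rw [hΛ, hζ]
      simp
    · rw [hsmulL, map_smul]
      have : p.lTensor I' (ι.rTensor F ζ) = ι.rTensor M (p.lTensor I ζ) := by
        rw [← LinearMap.comp_apply, LinearMap.lTensor_comp_rTensor,
          ← LinearMap.rTensor_comp_lTensor, LinearMap.comp_apply]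
      rw [this, hφ, smul_zero]
      rw [← LinearMap.comp_apply, LinearMap.rTensor_comp_lTensor,
        ← LinearMap.lTensor_comp_rTensor, LinearMap.comp_apply, hζ]
      simp only [LinearMap.lTensor_tmul]
      have : p (i ℓ) = 0 := hip.apply_apply_eq_zero ℓ
      rw [this, TensorProduct.tmul_zero]
  have hD : ∀ d ∈ Submodule.span R (goodSet I i R'), Pr d := by
    intro d hd
    induction hd using Submodule.span_induction with
    | mem t ht => exact hgood t ht
    | zero => exact hPzero
    | add a b _ _ ha hb => exact hPadd a b ha hb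
    | smul r a _ ha => exact hPsmul r a ha
  -- lift from the quotient
  have hlift : ∀ t ∈ Submodule.span R (goodSet I i (R' ⧸ I')),
      ∃ d ∈ Submodule.span R (goodSet I i R'), π'.rTensor L d = t := by
    intro t ht
    induction ht using Submodule.span_induction with
    | mem t ht =>
      obtain ⟨y, ℓ, hℓ, rfl⟩ := ht
      obtain ⟨y, rfl⟩ := hπ' y
      exact ⟨y ⊗ₜ ℓ, Submodule.subset_span ⟨y, ℓ, hℓ, rfl⟩, rfl⟩
    | zero => exact ⟨0, Submodule.zero_mem _, map_zero _⟩
    | add a b _ _ ha hb =>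
      obtain ⟨da, hda, rfl⟩ := ha
      obtain ⟨db, hdb, rfl⟩ := hb
      exact ⟨da + db, Submodule.add_mem _ hda hdb, map_add _ _ _⟩
    | smul r a _ ha =>
      obtain ⟨da, hda, rfl⟩ := ha
      exact ⟨r • da, Submodule.smul_mem _ r hda, map_smul _ _ _⟩
  obtain ⟨d, hd, hdlam⟩ := hlift _ h4
  have h5 : π'.rTensor L (lam - d) = 0 := by rw [map_sub, hdlam, sub_self]
  obtain ⟨lam', hlam'⟩ := (rTensor_exact L hexI' hπ' _).mp h5
  have hPlam' : Pr (incl.rTensor L lam') := by
    refine ⟨i.lTensor I' lam', ?_, ?_⟩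
    · rw [← LinearMap.comp_apply, LinearMap.rTensor_comp_lTensor, ← LinearMap.lTensor_comp_rTensor,
        LinearMap.comp_apply]
    · rw [← LinearMap.comp_apply, ← LinearMap.lTensor_comp, hip.linearMap_comp_eq_zero,
        LinearMap.lTensor_zero, LinearMap.zero_apply, map_zero]
  have hPlam : Pr lam := by
    have : lam = d + incl.rTensor L lam' := by rw [hlam']; abel
    rw [this]
    exact hPadd _ _ (hD d hd) hPlam'
  obtain ⟨ξ', hξ'1, hξ'2⟩ := hPlam
  have hinjF : Injective (incl.rTensor F) :=
    Module.Flat.rTensor_preserves_injective_linearMap incl hincl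
  have : ξ' = ξ := hinjF (by rw [hξ'1, hlam])
  rw [← this]
  exact hξ'2

/-- **Generation of `Tor_1` under base change.**  Any `R'`-linear map out of `I' ⊗_R M` killing the
image of `ker (I ⊗_R M → M)` kills `ker (I' ⊗_R M → R' ⊗_R M)`. -/
theorem gen (X : Type u) [AddCommGroup X] [Module R' X]
    (φ : (I.map (algebraMap R R')) ⊗[R] M →ₗ[R'] X)
    (hφ : ∀ k : I ⊗[R] M, I.subtype.rTensor M k = 0 →
      φ ((Algebra.idealMap R' I).rTensor M k) = 0)
    (x : (I.map (algebraMap R R')) ⊗[R] M)
    (hx : ((I.map (algebraMap R R')).subtype.restrictScalars R).rTensor M x = 0) : φ x = 0 := by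
  let p : (M →₀ R) →ₗ[R] M := Finsupp.linearCombination R (id : M → M)
  have hp : Surjective p := Finsupp.linearCombination_surjective R Function.surjective_id
  exact gen_aux R R' I M (L := LinearMap.ker p) (F := M →₀ R) (LinearMap.ker p).subtype p
    (LinearMap.exact_subtype_ker_map p) hp X φ hφ x hx

end gen

end Groth.Agent.H70.LocCrit
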