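import Mathlib.RingTheory.Localization.BaseChange
import Mathlib.Algebra.Module.LocalizedModule.Exact

/-!
# Tensoring a localized module: injectivity from kernel control (helper70)
-/

set_option autoImplicit false
universe u
open scoped TensorProduct
open Function (Injective Surjective Exact)

namespace Groth.Agent.H70.LocCrit

variable {A B : Type u} [CommRing A] [CommRing B] [Algebra A B] (W : Submonoid B)
  {N N' : Type u} [AddCommGroup N] [Module B N] [Module A N] [IsScalarTower A B N]
  [AddCommGroup N'] [Module B N'] [Module A N'] [IsScalarTower A B N']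
  (g : N →ₗ[B] N') [IsLocalizedModule W g]
  {Q₁ Q₂ : Type u} [AddCommGroup Q₁] [Module A Q₁] [AddCommGroup Q₂] [Module A Q₂]
  (u : Q₁ →ₗ[A] Q₂)

include W in
/-- Let `g : N → N'` be a localization of `B`-modules at `W ⊆ B` and `u : Q₁ → Q₂` an `A`-linear
map.  If every element of `ker (N ⊗ u)` is killed by `g ⊗ Q₁`, then `N' ⊗ u` is injective. -/
theorem lTensor_injective_of_isLocalizedModule
    (h : ∀ z : N ⊗[A] Q₁, u.lTensor N z = 0 →
      TensorProduct.AlgebraTensorModule.rTensor A Q₁ g z = 0) :
    Injective (u.lTensor N') := by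
  let g₁ := TensorProduct.AlgebraTensorModule.rTensor A Q₁ g
  let g₂ := TensorProduct.AlgebraTensorModule.rTensor A Q₂ g
  let uN := TensorProduct.AlgebraTensorModule.lTensor B N u
  let uN' := TensorProduct.AlgebraTensorModule.lTensor B N' u
  have hsq : ∀ z, uN' (g₁ z) = g₂ (uN z) := by
    intro z
    induction z using TensorProduct.induction_on with
    | zero => simp
    | tmul n q => rfl
    | add a b ha hb => simp only [map_add, ha, hb]
  rw [injective_iff_map_eq_zero]
  intro y hy
  have hy' : uN' y = 0 := hy
  obtain ⟨⟨z, w⟩, hz⟩ := IsLocalizedModule.surj W g₁ y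
  have hz' : (w : B) • y = g₁ z := hz
  have h1 : g₂ (uN z) = g₂ 0 := by
    rw [← hsq, ← hz', map_smul, hy', smul_zero, map_zero]
  obtain ⟨c, hc⟩ := IsLocalizedModule.exists_of_eq (S := W) h1
  have hc' : (c : B) • uN z = 0 := by
    have : (c : B) • uN z = (c : B) • (0 : N ⊗[A] Q₂) := hc
    rw [this, smul_zero]
  have h2 : u.lTensor N ((c : B) • z) = 0 := by
    change uN ((c : B) • z) = 0
    rw [map_smul]; exact hc'
  have h3 := h ((c : B) • z) h2
  have h4 : (c : B) • (w : B) • y = 0 := by
    rw [hz', ← map_smul]; exact h3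
  have hw : ∀ (w : W) (y : N' ⊗[A] Q₁), (w : B) • y = 0 → y = 0 := by
    intro w y hwy
    have := IsLocalizedModule.smul_injective g₁ w
    apply this
    change (w : B) • y = (w : B) • 0
    rw [smul_zero]; exact hwy
  exact hw w y (hw c _ h4)

end Groth.Agent.H70.LocCrit
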