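import Groth.Agent.H70.LocCrit.Loc
import Groth.Agent.H70.LocCrit.BC
import Groth.Agent.H2.LocalCrit
import Mathlib.RingTheory.LocalRing.RingHom.Basic
import Mathlib.RingTheory.Jacobson.Ideal

/-!
# A variant of the local criterion of flatness (Stacks 10.99.8) (helper70)
-/

set_option autoImplicit false
set_option linter.style.haveILetI false
universe u
open scoped TensorProduct
open Function (Injective Surjective Exact)

namespace Groth.Agent.H70.LocCrit

theorem main
    (R S R' S' : Type u) [CommRing R] [CommRing S] [CommRing R'] [CommRing S']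
    [IsLocalRing R] [IsLocalRing S] [IsLocalRing R'] [IsLocalRing S']
    [IsNoetherianRing R] [IsNoetherianRing S] [IsNoetherianRing R'] [IsNoetherianRing S']
    [Algebra R S] [Algebra R R'] [Algebra S S'] [Algebra R' S'] [Algebra R S']
    [IsScalarTower R S S'] [IsScalarTower R R' S']
    [IsLocalHom (algebraMap R S)] [IsLocalHom (algebraMap R R')] [IsLocalHom (algebraMap S S')]
    [IsLocalHom (algebraMap R' S')]
    (I : Ideal R) (hI : I ≠ ⊤) (M : Type u) [AddCommGroup M] [Module S M] [Module R M] [IsScalarTower R S M]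
    [Module.Finite S M]
    (M' : Type u) [AddCommGroup M'] [Module S' M'] [Module R' M'] [IsScalarTower R' S' M']
    [Module S M'] [IsScalarTower S S' M'] [Module R M'] [IsScalarTower R R' M'] [IsScalarTower R S M']
    (f : M →ₗ[S] M') (hf : IsBaseChange S' f)
    (h1 : ∃ W : Submonoid (S ⊗[R] R'),
      letI : Algebra (S ⊗[R] R') S' :=
        (Algebra.TensorProduct.lift (IsScalarTower.toAlgHom R S S') (IsScalarTower.toAlgHom R R' S')
          (fun s r => Commute.all _ _)).toRingHom.toAlgebra;
      IsLocalization W S')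
    (h2 : Module.Flat (R ⧸ I) ((R ⧸ I) ⊗[R] M))
    (h3 : ∀ x : ↥I ⊗[R] M, (Submodule.subtype I).rTensor M x = 0 →
      (TensorProduct.mapOfCompatibleSMul R' R R ↥(I.map (algebraMap R R')) M')
        ((TensorProduct.map (Algebra.idealMap R' I) (f.restrictScalars R)) x) = 0) :
    Module.Flat R' M' := by
  obtain ⟨W, hW⟩ := h1
  letI algT : Algebra (S ⊗[R] R') S' :=
        (Algebra.TensorProduct.lift (IsScalarTower.toAlgHom R S S') (IsScalarTower.toAlgHom R R' S')
          (fun s r => Commute.all _ _)).toRingHom.toAlgebra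
  haveI : IsLocalization W S' := hW
  letI : Algebra R' (S ⊗[R] R') := Algebra.TensorProduct.rightAlgebra
  have halg : ∀ s r', algebraMap (S ⊗[R] R') S' (s ⊗ₜ r') = algebraMap S S' s * algebraMap R' S' r' := by
    intro s r'
    rfl
  letI : Module (S ⊗[R] R') M' := Module.compHom M' (algebraMap (S ⊗[R] R') S')
  haveI : IsScalarTower (S ⊗[R] R') S' M' := IsScalarTower.of_algebraMap_smul (fun _ _ => rfl)
  haveI : IsScalarTower S (S ⊗[R] R') S' := IsScalarTower.of_algebraMap_eq (fun s => by
    rw [Algebra.TensorProduct.algebraMap_apply, halg]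
    simp)
  haveI : IsScalarTower R' (S ⊗[R] R') S' := IsScalarTower.of_algebraMap_eq (fun r' => by
    have : algebraMap R' (S ⊗[R] R') r' = 1 ⊗ₜ r' := rfl
    rw [this, halg]
    simp)
  haveI : IsScalarTower S (S ⊗[R] R') M' := IsScalarTower.of_algebraMap_smul (fun s m => by
    rw [← algebraMap_smul S' (algebraMap S (S ⊗[R] R') s) m,
      ← IsScalarTower.algebraMap_apply S (S ⊗[R] R') S', algebraMap_smul])
  haveI : IsScalarTower R' (S ⊗[R] R') M' := IsScalarTower.of_algebraMap_smul (fun s m => by
    rw [← algebraMap_smul S' (algebraMap R' (S ⊗[R] R') s) m,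
      ← IsScalarTower.algebraMap_apply R' (S ⊗[R] R') S', algebraMap_smul])
  let f₀ : M →ₗ[S] (S ⊗[R] R') ⊗[S] M := TensorProduct.mk S (S ⊗[R] R') M 1
  have hf₀ : IsBaseChange (S ⊗[R] R') f₀ := TensorProduct.isBaseChange S M (S ⊗[R] R')
  let g : (S ⊗[R] R') ⊗[S] M →ₗ[S ⊗[R] R'] M' := hf₀.lift f
  have hg : IsBaseChange S' g := by
    apply IsBaseChange.of_comp hf₀
    rw [IsBaseChange.lift_comp]
    exact hf
  haveI : IsLocalizedModule W g := (isLocalizedModule_iff_isBaseChange W S' g).mpr hg
  -- the base change `j : M → P` over `R → R'`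
  let j : M →ₗ[R] (S ⊗[R] R') ⊗[S] M := f₀.restrictScalars R
  have hj : IsBaseChange R' j := by
    refine IsBaseChange.of_equiv (Algebra.IsPushout.cancelBaseChange R R' S (S ⊗[R] R') M).symm ?_
    intro m
    rw [Algebra.IsPushout.cancelBaseChange_symm_tmul]
    simp [j, f₀]
  have hgj : ∀ m, g (j m) = f m := fun m => hf₀.lift_eq f m
  -- finiteness and the radical condition
  haveI : Module.Finite S' M' := Module.Finite.equiv hf.equiv
  have hI' : (I.map (algebraMap R R')).map (algebraMap R' S') ≤ Ideal.jacobson ⊥ := by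
    rw [IsLocalRing.jacobson_eq_maximalIdeal ⊥ bot_ne_top]
    have h1 : I ≤ IsLocalRing.maximalIdeal R := IsLocalRing.le_maximalIdeal hI
    have h2 : I.map (algebraMap R R') ≤ IsLocalRing.maximalIdeal R' :=
      (Ideal.map_mono h1).trans (IsLocalRing.map_maximalIdeal_le (algebraMap R R'))
    exact (Ideal.map_mono h2).trans (IsLocalRing.map_maximalIdeal_le (algebraMap R' S'))
  -- flatness of the quotient base change
  haveI hflatq : Module.Flat (R' ⧸ I.map (algebraMap R R')) ((R' ⧸ I.map (algebraMap R R')) ⊗[R] M) :=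
    Module.Flat.of_linearEquiv (TensorProduct.AlgebraTensorModule.cancelBaseChange R (R ⧸ I)
      (R' ⧸ I.map (algebraMap R R')) (R' ⧸ I.map (algebraMap R R')) M).symm
  haveI hE : Module.Flat (R' ⧸ I.map (algebraMap R R'))
      ((R' ⧸ I.map (algebraMap R R')) ⊗[R'] M') := by
    apply flat_of_rTensor_injective
    intro J
    rw [← LinearMap.lTensor_inj_iff_rTensor_inj]
    apply lTensor_injective_of_isLocalizedModule W g
    intro z hz
    have hinj : Injective ((J.subtype.restrictScalars R').lTensor ((S ⊗[R] R') ⊗[S] M)) := by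
      apply lTensor_injective_of_rTensor_injective hj
      exact Groth.Agent.H2.rTensor_injective_of_algebra_flat (R := R) (M := M)
        (R' ⧸ I.map (algebraMap R R')) J.subtype (Submodule.injective_subtype J)
    rw [hinj (hz.trans (map_zero _).symm), map_zero]
  -- the Tor condition
  have hT : Injective ((I.map (algebraMap R R')).subtype.rTensor M') := by
    rw [← LinearMap.lTensor_inj_iff_rTensor_inj]
    apply lTensor_injective_of_isLocalizedModule W g
    intro z hz
    let ψ : ((S ⊗[R] R') ⊗[S] M) ⊗[R'] (I.map (algebraMap R R')) →ₗ[R']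
        M' ⊗[R'] (I.map (algebraMap R R')) :=
      (TensorProduct.AlgebraTensorModule.rTensor R' (I.map (algebraMap R R')) g).restrictScalars R'
    have hcomp : ∀ k : I ⊗[R] M,
        ψ ((theta hj (I.map (algebraMap R R'))).symm ((Algebra.idealMap R' I).rTensor M k)) =
        (TensorProduct.comm R' (I.map (algebraMap R R')) M')
          ((TensorProduct.mapOfCompatibleSMul R' R R ↥(I.map (algebraMap R R')) M')
            ((TensorProduct.map (Algebra.idealMap R' I) (f.restrictScalars R)) k)) := by
      intro k
      induction k using TensorProduct.induction_on with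
      | zero => simp
      | tmul a m =>
        rw [LinearMap.rTensor_tmul, theta_symm_tmul]
        change g (j m) ⊗ₜ[R'] (Algebra.idealMap R' I a) = _
        rw [hgj]
        rfl
      | add a b ha hb => simp only [map_add, ha, hb]
    have := ker_lTensor_of_gen hj I _ ψ (fun k hk => by rw [hcomp, h3 k hk, map_zero]) z hz
    exact this
  exact Groth.Agent.H2.flat_of_rTensor_injective_of_flat_quotient (S := S')
    (I.map (algebraMap R R')) hI' hT

end Groth.Agent.H70.LocCrit
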